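import Groth.Prelude.Def_DeltaF
import Mathlib.CategoryTheory.Preadditive.Injective.Basic
import Mathlib.CategoryTheory.Abelian.Refinements
import Mathlib.CategoryTheory.Abelian.Basic
import Mathlib.CategoryTheory.Abelian.FunctorCategory
import Mathlib.CategoryTheory.Adhesive.Basic

/-! Effaceable delta-functors. -/

set_option autoImplicit false
set_option linter.unusedVariables false
set_option linter.unusedSectionVars false
set_option linter.style.haveILetI false

universe u v u' v'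

open CategoryTheory CategoryTheory.Limits DeltaF

namespace Groth.Agent.DeltaF50

variable {A : Type u} [Category.{v} A] [Abelian A] {B : Type u'} [Category.{v'} B] [Abelian B]

/-- The short exact sequence of a monomorphism. -/
noncomputable abbrev seq {X Y : A} (u : X ⟶ Y) : ShortComplex A :=
  ShortComplex.mk u (cokernel.π u) (cokernel.condition u)

theorem seq_shortExact {X Y : A} (u : X ⟶ Y) [Mono u] : (seq u).ShortExact where
  exact := ShortComplex.exact_of_g_is_cokernel _ (cokernelIsCokernel u)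
  mono_f := inferInstanceAs (Mono u)
  epi_g := inferInstanceAs (Epi (cokernel.π u))

theorem exists_lift_hom (S S' : ShortComplex A) (hS : S.ShortExact) (f : S.X₁ ⟶ S'.X₁)
    (h : S.X₂ ⟶ S'.X₂) (w : f ≫ S'.f = S.f ≫ h) :
    ∃ φ : S ⟶ S', φ.τ₁ = f := by
  have := hS.epi_g
  have hc := hS.exact.gIsCokernel
  obtain ⟨k, hk⟩ := CokernelCofork.IsColimit.desc' hc (h ≫ S'.g)
    (by rw [← reassoc_of% w, S'.zero, comp_zero])
  exact ⟨{ τ₁ := f, τ₂ := h, τ₃ := k, comm₁₂ := w, comm₂₃ := hk.symm }, rfl⟩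

variable {T T' : CohDeltaFunctor A B ℕ}

theorem epi_δ (S : ShortComplex A) (hS : S.ShortExact) (n : ℕ)
    (h : (T.F (n + 1)).map S.f = 0) : Epi (T.δ S hS n (n + 1) rfl) :=
  (T.exact₁ S hS n (n + 1) rfl).epi_f h

theorem exists_step (hT : T.IsEffaceable) (n : ℕ) (t : T.F n ⟶ T'.F n) :
    ∃ t' : T.F (n + 1) ⟶ T'.F (n + 1), ∀ (S : ShortComplex A) (hS : S.ShortExact),
      T.δ S hS n (n + 1) rfl ≫ t'.app S.X₁ = t.app S.X₃ ≫ T'.δ S hS n (n + 1) rfl := by
  choose Y u hu hu0 using hT n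
  have hS : ∀ X, (seq (u X)).ShortExact := fun X => have := hu X; seq_shortExact (u X)
  have hepi : ∀ X, Epi (T.δ (seq (u X)) (hS X) n (n + 1) rfl) := fun X =>
    epi_δ _ (hS X) n (hu0 X)
  have hloc : ∀ X, ∃ a : (T.F (n + 1)).obj X ⟶ (T'.F (n + 1)).obj X,
      T.δ (seq (u X)) (hS X) n (n + 1) rfl ≫ a =
        t.app (seq (u X)).X₃ ≫ T'.δ (seq (u X)) (hS X) n (n + 1) rfl := by
    intro X
    have := hepi X
    obtain ⟨a, ha⟩ := CokernelCofork.IsColimit.desc'
      (T.exact₃ (seq (u X)) (hS X) n (n + 1) rfl).gIsCokernel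
      (t.app (seq (u X)).X₃ ≫ T'.δ (seq (u X)) (hS X) n (n + 1) rfl)
      (by
        dsimp
        rw [t.naturality_assoc, T'.comp_δ (seq (u X)) (hS X) n (n + 1) rfl, comp_zero])
    exact ⟨a, ha⟩
  choose a ha using hloc
  -- the compatibility with every short exact sequence and every morphism
  have key : ∀ (S : ShortComplex A) (h : S.ShortExact) (X' : A) (f : S.X₁ ⟶ X'),
      T.δ S h n (n + 1) rfl ≫ (T.F (n + 1)).map f ≫ a X' =
        t.app S.X₃ ≫ T'.δ S h n (n + 1) rfl ≫ (T'.F (n + 1)).map f := by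
    intro S h X' f
    have := h.mono_f
    have := hu X'
    let inl : S.X₂ ⟶ pushout S.f (f ≫ u X') := pushout.inl _ _
    let inr : Y X' ⟶ pushout S.f (f ≫ u X') := pushout.inr _ _
    have : Mono inr := inferInstanceAs (Mono (pushout.inr S.f (f ≫ u X')))
    let S' := seq (u X' ≫ inr)
    have hS' : S'.ShortExact := seq_shortExact _
    have hS'0 : (T.F (n + 1)).map S'.f = 0 := by
      show (T.F (n + 1)).map (u X' ≫ inr) = 0
      rw [Functor.map_comp, hu0, zero_comp]
    obtain ⟨φ, hφ⟩ := exists_lift_hom S S' h f inl (by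
      show f ≫ u X' ≫ inr = S.f ≫ inl
      rw [← Category.assoc, pushout.condition])
    obtain ⟨ψ, hψ⟩ := exists_lift_hom (seq (u X')) S' (hS X') (𝟙 X') inr
      (by show 𝟙 X' ≫ u X' ≫ inr = u X' ≫ inr; simp)
    have h2 : T.δ S' hS' n (n + 1) rfl ≫ a X' = t.app S'.X₃ ≫ T'.δ S' hS' n (n + 1) rfl := by
      have e1 := T.δ_natural (hS X') hS' ψ n (n + 1) rfl
      have e2 := T'.δ_natural (hS X') hS' ψ n (n + 1) rfl
      rw [hψ, CategoryTheory.Functor.map_id, Category.comp_id] at e1 e2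
      have := hepi X'
      -- both sides agree after restriction along ψ
      have h3 : (T.F n).map ψ.τ₃ ≫ (T.δ S' hS' n (n + 1) rfl ≫ a X') =
          (T.F n).map ψ.τ₃ ≫ (t.app S'.X₃ ≫ T'.δ S' hS' n (n + 1) rfl) := by
        rw [← Category.assoc, e1, ha, t.naturality_assoc, e2]
      -- and `a X'` is determined by δ of S'
      have := epi_δ (T := T) S' hS' n hS'0
      obtain ⟨b, hb⟩ := CokernelCofork.IsColimit.desc'
        (T.exact₃ S' hS' n (n + 1) rfl).gIsCokernel
        (t.app S'.X₃ ≫ T'.δ S' hS' n (n + 1) rfl)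
        (by dsimp; rw [t.naturality_assoc, T'.comp_δ S' hS' n (n + 1) rfl, comp_zero])
      replace hb : T.δ S' hS' n (n + 1) rfl ≫ b = t.app S'.X₃ ≫ T'.δ S' hS' n (n + 1) rfl := hb
      have hab : a X' = b := by
        rw [← cancel_epi (T.δ (seq (u X')) (hS X') n (n + 1) rfl), ← e1, Category.assoc,
          Category.assoc, h3, hb]
      rw [hab, hb]
    have e1 := T.δ_natural h hS' φ n (n + 1) rfl
    have e2 := T'.δ_natural h hS' φ n (n + 1) rfl
    rw [hφ] at e1 e2
    rw [← Category.assoc, ← e1, Category.assoc, h2, t.naturality_assoc, e2]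
  refine ⟨{ app := a, naturality := fun X X' f => ?_ }, fun S h => ?_⟩
  · have := hepi X
    rw [← cancel_epi (T.δ (seq (u X)) (hS X) n (n + 1) rfl), key (seq (u X)) (hS X) X' f]
    rw [← reassoc_of% (ha X)]
  · simpa using key S h S.X₁ (𝟙 _)

theorem isUniversal_of_isEffaceable (hT : T.IsEffaceable) : T.IsUniversal := by
  intro T' t
  choose step hstep using fun n t => exists_step (T' := T') hT n t
  let app : ∀ n, T.F n ⟶ T'.F n := fun n => Nat.rec t step n
  refine ⟨⟨app, fun S hS n₀ n₁ h => ?_⟩, rfl, fun σ hσ => ?_⟩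
  · subst h
    exact hstep n₀ (app n₀) S hS
  · apply CohDeltaFunctor.hom_ext
    intro n
    induction n with
    | zero => exact hσ
    | succ n ih =>
      ext X
      obtain ⟨Y, u, hu, hu0⟩ := hT n X
      have := epi_δ (T := T) (seq u) (seq_shortExact u) n hu0
      rw [← cancel_epi (T.δ (seq u) (seq_shortExact u) n (n + 1) rfl)]
      refine (σ.comm (seq u) (seq_shortExact u) n (n + 1) rfl).trans ?_
      rw [ih]
      exact (hstep n (app n) (seq u) (seq_shortExact u)).symm

theorem isEffaceable_iff [EnoughInjectives A] :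
    T.IsEffaceable ↔ ∀ (n : ℕ) (I : A), Injective I → IsZero ((T.F (n + 1)).obj I) := by
  refine ⟨fun h n I hI => ?_, fun h n X => ?_⟩
  · obtain ⟨Y, u, hu, hu0⟩ := h n I
    rw [IsZero.iff_id_eq_zero, ← CategoryTheory.Functor.map_id, ← Injective.comp_factorThru (𝟙 I) u,
      Functor.map_comp, hu0, zero_comp]
  · exact ⟨Injective.under X, Injective.ι X, inferInstance,
      (h n _ inferInstance).eq_of_tgt _ _⟩

theorem existsUnique_iso_of_isUniversal (hT : T.IsUniversal) (hT' : T'.IsUniversal)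
    (e : T.F 0 ≅ T'.F 0) : ∃! φ : T ≅ T', φ.hom.app 0 = e.hom := by
  obtain ⟨f, hf, hfu⟩ := hT T' e.hom
  obtain ⟨g, hg, -⟩ := hT' T e.inv
  obtain ⟨_, -, h1⟩ := hT T (𝟙 _)
  obtain ⟨_, -, h2⟩ := hT' T' (𝟙 _)
  refine ⟨⟨f, g, (h1 _ ?_).trans (h1 _ rfl).symm, (h2 _ ?_).trans (h2 _ rfl).symm⟩, hf,
    fun φ hφ => Iso.ext (hfu _ hφ)⟩
  · simp [hf, hg]
  · simp [hf, hg]

theorem mono_succ (hT : T.IsEffaceable) (φ : T ⟶ T') (n : ℕ) [IsIso (φ.app n)] :
    Mono (φ.app (n + 1)) := by
  have : ∀ X, Mono ((φ.app (n + 1)).app X) := by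
    intro X
    obtain ⟨Y, u, hu, hu0⟩ := hT n X
    have hS := seq_shortExact u
    have hepi := epi_δ (T := T) (seq u) hS n hu0
    refine Preadditive.mono_of_cancel_zero _ fun {P} x hx => ?_
    obtain ⟨P', π, hπ, q, hq⟩ := surjective_up_to_refinements_of_epi
      (T.δ (seq u) hS n (n + 1) rfl) x
    have h0 : (q ≫ (φ.app n).app (seq u).X₃) ≫ T'.δ (seq u) hS n (n + 1) rfl = 0 := by
      rw [Category.assoc, ← φ.comm]
      change q ≫ T.δ (seq u) hS n (n + 1) rfl ≫ (φ.app (n + 1)).app X = 0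
      rw [← reassoc_of% hq, hx, comp_zero]
    obtain ⟨P'', π', hπ', y', hy'⟩ :=
      (T'.exact₃ (seq u) hS n (n + 1) rfl).exact_up_to_refinements _ h0
    have h1 : π' ≫ q = (y' ≫ inv ((φ.app n).app (seq u).X₂)) ≫ (T.F n).map (seq u).g := by
      rw [← cancel_mono ((φ.app n).app (seq u).X₃), Category.assoc, hy', Category.assoc,
        Category.assoc, (φ.app n).naturality]
      simp
    rw [← cancel_epi π, ← cancel_epi π', hq, ← Category.assoc, h1, Category.assoc,
      T.comp_δ (seq u) hS n (n + 1) rfl]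
    simp
  exact NatTrans.mono_of_mono_app _

theorem iso_le_mono_succ_iff (hT : T.IsEffaceable) (φ : T ⟶ T') (n : ℕ) :
    ((∀ i : ℕ, i ≤ n → IsIso (φ.app i)) ∧ Mono (φ.app (n + 1)) ↔
      (Mono (φ.app 0) ∧ ∀ i : ℕ, i ≤ n → Epi (φ.app i))) ∧
    ((∀ i : ℕ, i ≤ n → IsIso (φ.app i)) ∧ Mono (φ.app (n + 1)) ↔
      (IsIso (φ.app 0) ∧ ∀ i : ℕ, 0 < i → i ≤ n → ∀ X : A, ∃ (Y : A) (u : X ⟶ Y), Mono u ∧
        (T'.F i).map u = 0)) := by
  have main : (Mono (φ.app 0) ∧ ∀ i : ℕ, i ≤ n → Epi (φ.app i)) →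
      (∀ i : ℕ, i ≤ n → IsIso (φ.app i)) ∧ Mono (φ.app (n + 1)) := by
    rintro ⟨h0, he⟩
    have key : ∀ i, i ≤ n → IsIso (φ.app i) := by
      intro i
      induction i with
      | zero => intro hi; have := he 0 hi; exact isIso_of_mono_of_epi _
      | succ i ih =>
        intro hi
        have := ih (Nat.le_of_succ_le hi)
        have := mono_succ hT φ i
        have := he (i + 1) hi
        exact isIso_of_mono_of_epi _
    have := key n le_rfl
    exact ⟨key, mono_succ hT φ n⟩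
  refine ⟨⟨fun h => ?_, main⟩, ⟨fun h => ?_, fun h => main ?_⟩⟩
  · have := h.1 0 (Nat.zero_le n)
    exact ⟨inferInstance, fun i hi => have := h.1 i hi; inferInstance⟩
  · refine ⟨h.1 0 (Nat.zero_le n), fun i hi hin X => ?_⟩
    obtain ⟨j, rfl⟩ : ∃ j, i = j + 1 := ⟨i - 1, by omega⟩
    obtain ⟨Y, u, hu, hu0⟩ := hT j X
    have := h.1 (j + 1) hin
    exact ⟨Y, u, hu, by rw [← cancel_epi ((φ.app (j + 1)).app X), ← (φ.app (j + 1)).naturality, hu0,
      zero_comp, comp_zero]⟩
  · obtain ⟨h0, heff⟩ := h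
    refine ⟨inferInstance, ?_⟩
    have key : ∀ i, i ≤ n → IsIso (φ.app i) := by
      intro i
      induction i with
      | zero => exact fun _ => h0
      | succ i ih =>
        intro hi
        have := ih (Nat.le_of_succ_le hi)
        have := mono_succ hT φ i
        have : ∀ X, Epi ((φ.app (i + 1)).app X) := by
          intro X
          obtain ⟨Y, u, hu, hu0⟩ := heff (i + 1) (Nat.succ_pos i) hi X
          have hS := seq_shortExact u
          have := epi_δ (T := T') (seq u) hS i hu0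
          have h2 : Epi (T.δ (seq u) hS i (i + 1) rfl ≫ (φ.app (i + 1)).app (seq u).X₁) := by
            rw [φ.comm]; infer_instance
          exact epi_of_epi (T.δ (seq u) hS i (i + 1) rfl) ((φ.app (i + 1)).app (seq u).X₁)
        have := NatTrans.epi_of_epi_app (φ.app (i + 1))
        exact isIso_of_mono_of_epi _
    intro i hi
    have := key i hi
    infer_instance

end Groth.Agent.DeltaF50
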